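import Cfsg.Agent.Lib.JThree.Search
import Cfsg.Agent.Lib.JThree.Table

/-! The search on part 0 of the table. -/

set_option autoImplicit false
set_option maxRecDepth 100000
set_option Elab.async false

namespace CfsgLib.JThree

theorem check0_0 :
    searchT (128062968459, [17173131, 29149232]) = true := by
  decide +kernel

theorem check0_1 :
    searchT (128070259022, [11979848, 17173131, 29149232]) = true := by
  decide +kernel

theorem check0_2 :
    searchT (128074158176, [8080694, 13274105, 17173131, 17959643, 23152926, 29149232, 30443489]) = true := by
  decide +kernel

theorem check0_3 :
    searchT (128078057330, [29149232]) = true := by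
  decide +kernel

theorem check0_4 :
    searchT (128080137971, [29149232]) = true := by
  decide +kernel

theorem check0_5 :
    searchT (128081448611, [8080694, 11979848, 23152926, 29149232]) = true := by
  decide +kernel

theorem check0_6 :
    searchT (128084036997, [8080694, 11979848, 13274105, 17173131, 23152926, 29149232, 30443489]) = true := by
  decide +kernel

theorem check0_7 :
    searchT (128085347765, [29149232]) = true := by
  decide +kernel

theorem check0 : tab0.all searchT = true := by
  simp only [tab0, List.all_cons, List.all_nil, check0_0, check0_1, check0_2, check0_3, check0_4, check0_5, check0_6, check0_7, Bool.and_self]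

end CfsgLib.JThree
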