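import Cfsg.Agent.Lib.JThree.Search
import Cfsg.Agent.Lib.JThree.Table

/-! The search on part 1 of the table. -/

set_option autoImplicit false
set_option maxRecDepth 100000
set_option Elab.async false

namespace CfsgLib.JThree

theorem check1_0 :
    searchT (128087428406, [29149232]) = true := by
  decide +kernel

theorem check1_1 :
    searchT (128087936151, [8080694, 17173131, 23152926, 29149232]) = true := by
  decide +kernel

theorem check1_2 :
    searchT (128091327560, [8080694, 11979848, 13274105, 17173131, 17959643, 23152926, 29149232, 30443489]) = true := by
  decide +kernel

theorem check1_3 :
    searchT (191950606749, [13273739, 23152688]) = true := by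
  decide +kernel

theorem check1_4 :
    searchT (191957897312, [4181302, 8080456, 13273739, 23152688, 29148994]) = true := by
  decide +kernel

theorem check1_5 :
    searchT (191961796466, [4181302, 23152688]) = true := by
  decide +kernel

theorem check1_6 :
    searchT (191967776133, [4181302, 8080456, 13273739, 23152688, 29148994]) = true := by
  decide +kernel

theorem check1_7 :
    searchT (191969086901, [4181302, 23152688, 29148994]) = true := by
  decide +kernel

theorem check1_8 :
    searchT (191971675287, [4181302, 13273739, 23152688]) = true := by
  decide +kernel

theorem check1 : tab1.all searchT = true := by
  simp only [tab1, List.all_cons, List.all_nil, check1_0, check1_1, check1_2, check1_3, check1_4, check1_5, check1_6, check1_7, check1_8, Bool.and_self]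

end CfsgLib.JThree
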