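import Cfsg.Agent.Lib.JThree.Search
import Cfsg.Agent.Lib.JThree.Table

/-! The search on part 10 of the table. -/

set_option autoImplicit false
set_option maxRecDepth 100000
set_option Elab.async false

namespace CfsgLib.JThree

theorem check10_0 :
    searchT (626534354675, [3917555, 5015600, 8078837, 13272120]) = true := by
  decide +kernel

theorem check10_1 :
    searchT (626534961486, [3917555, 5015600, 7816581, 8078837, 11977863, 13796376]) = true := by
  decide +kernel

theorem check10_2 :
    searchT (626538253701, [2115553, 3917555, 5015600, 7816581, 8078837, 9505054, 11977863, 13272120, 13796376, 16108171, 20597753]) = true := by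
  decide +kernel

theorem check10_3 :
    searchT (626539547958, [3917555, 5015600, 8078837]) = true := by
  decide +kernel

theorem check10_4 :
    searchT (626543447112, [2115553, 3917555, 5015600, 7816581, 8078837, 9505054, 11977863, 13272120, 13796376, 14797531, 16108171, 20597753, 25890102]) = true := by
  decide +kernel

theorem check10_5 :
    searchT (626547346266, [2115553, 3917555, 5015600, 8078837, 9505054, 11977863, 13272120, 13796376, 14797531, 20597753, 25890102]) = true := by
  decide +kernel

theorem check10_6 :
    searchT (626547608394, [5015600, 9505054, 20597753]) = true := by
  decide +kernel

theorem check10_7 :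
    searchT (626550737547, [5015600, 7816581, 9505054, 13796376, 25890102]) = true := by
  decide +kernel

theorem check10 : tab10.all searchT = true := by
  simp only [tab10, List.all_cons, List.all_nil, check10_0, check10_1, check10_2, check10_3, check10_4, check10_5, check10_6, check10_7, Bool.and_self]

end CfsgLib.JThree
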