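import Cfsg.Agent.Lib.JThree.Search
import Cfsg.Agent.Lib.JThree.Table

/-! The search on part 11 of the table. -/

set_option autoImplicit false
set_option maxRecDepth 100000
set_option Elab.async false

namespace CfsgLib.JThree

theorem check11_0 :
    searchT (626554636701, [3917555, 5015600, 8078837, 9505054, 13272120, 13796376, 25890102]) = true := by
  decide +kernel

theorem check11_1 :
    searchT (626554898829, [3917555, 5015600, 9505054, 11977863, 13796376, 14797531, 25890102]) = true := by
  decide +kernel

theorem check11_2 :
    searchT (626555423213, [3917555, 5015600, 8078837, 25890102]) = true := by
  decide +kernel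

theorem check11_3 :
    searchT (626558797983, [2115553, 3917555, 5015600, 7816581, 8078837, 9505054, 13272120, 13796376, 14797531, 20597753, 25890102]) = true := by
  decide +kernel

theorem check11_4 :
    searchT (626559322367, [3917555, 7816581, 8078837, 9505054, 11977863, 25890102]) = true := by
  decide +kernel

theorem check11_5 :
    searchT (626560616496, [3917555, 5015600, 13272120, 20597753]) = true := by
  decide +kernel

theorem check11_6 :
    searchT (690418110322, [2115315, 4179445, 9504816]) = true := by
  decide +kernel

theorem check11_7 :
    searchT (690421992837, [2115315, 3917189, 4179445, 5015362, 8078471, 9504816, 9896984, 13271882, 20597387]) = true := by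
  decide +kernel

theorem check11_8 :
    searchT (690422599776, [2115315, 3917189, 4179445, 5015362, 8078471, 9504816, 9896984, 13271882]) = true := by
  decide +kernel

theorem check11 : tab11.all searchT = true := by
  simp only [tab11, List.all_cons, List.all_nil, check11_0, check11_1, check11_2, check11_3, check11_4, check11_5, check11_6, check11_7, check11_8, Bool.and_self]

end CfsgLib.JThree
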