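import Cfsg.Agent.Lib.JThree.Search
import Cfsg.Agent.Lib.JThree.Table

/-! The search on part 12 of the table. -/

set_option autoImplicit false
set_option maxRecDepth 100000
set_option Elab.async false

namespace CfsgLib.JThree

theorem check12_0 :
    searchT (690425891991, [2115315, 3917189, 4179445, 8078471, 9504816, 9896984, 13994270, 20597387]) = true := by
  decide +kernel

theorem check12_1 :
    searchT (690427186248, [2115315, 3917189, 4179445, 5015362, 8078471, 9504816, 9896984, 13271882, 20597387, 25889864]) = true := by
  decide +kernel

theorem check12_2 :
    searchT (690431085402, [2115315, 3917189, 4179445, 5015362, 8078471, 9504816, 9896984, 13271882, 13994270, 19286747, 20597387, 25889864, 30379318]) = true := by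
  decide +kernel

theorem check12_3 :
    searchT (690434984556, [2115315, 3917189, 8078471, 9504816, 9896984, 13271882, 13994270, 19286747, 20597387, 30379318]) = true := by
  decide +kernel

theorem check12_4 :
    searchT (690435246684, [5015362, 9504816, 13994270, 20597387]) = true := by
  decide +kernel

theorem check12_5 :
    searchT (690438375837, [3917189, 4179445, 5015362, 9504816, 9896984, 13271882, 13994270, 25889864, 30379318]) = true := by
  decide +kernel

theorem check12_6 :
    searchT (690442274991, [2115315, 3917189, 5015362, 8078471, 9504816, 9896984, 13271882, 13994270, 25889864, 30379318]) = true := by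
  decide +kernel

theorem check12_7 :
    searchT (690442537119, [2115315, 3917189, 5015362, 8078471, 9504816, 9896984, 13271882, 13994270, 19286747, 20597387, 25889864, 30379318]) = true := by
  decide +kernel

theorem check12 : tab12.all searchT = true := by
  simp only [tab12, List.all_cons, List.all_nil, check12_0, check12_1, check12_2, check12_3, check12_4, check12_5, check12_6, check12_7, Bool.and_self]

end CfsgLib.JThree
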