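import Cfsg.Agent.Lib.JThree.Search
import Cfsg.Agent.Lib.JThree.Table

/-! The search on part 13 of the table. -/

set_option autoImplicit false
set_option maxRecDepth 100000
set_option Elab.async false

namespace CfsgLib.JThree

theorem check13_0 :
    searchT (690443061503, [2115315, 3917189, 4179445, 8078471, 9504816, 13994270, 25889864, 30379318]) = true := by
  decide +kernel

theorem check13_1 :
    searchT (690446436273, [2115315, 3917189, 4179445, 5015362, 9504816, 13271882, 13994270, 19286747, 20597387, 30379318]) = true := by
  decide +kernel

theorem check13_2 :
    searchT (745984249507, [5015283, 11977546, 14797086]) = true := by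
  decide +kernel

theorem check13_3 :
    searchT (745988132150, [5015283]) = true := by
  decide +kernel

theorem check13_4 :
    searchT (745992031304, [5015283, 7816264, 8078392, 9504737, 11977546, 14797086, 25889785]) = true := by
  decide +kernel

theorem check13_5 :
    searchT (745996128590, [5015283, 7816264, 11977546]) = true := by
  decide +kernel

theorem check13_6 :
    searchT (745997224587, [5015283]) = true := by
  decide +kernel

theorem check13_7 :
    searchT (746001123741, [5015283, 8078392, 9504737, 11977546, 14797086, 25889785]) = true := by
  decide +kernel

theorem check13_8 :
    searchT (746001385869, [5015283, 11977546, 14797086]) = true := by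
  decide +kernel

theorem check13 : tab13.all searchT = true := by
  simp only [tab13, List.all_cons, List.all_nil, check13_0, check13_1, check13_2, check13_3, check13_4, check13_5, check13_6, check13_7, check13_8, Bool.and_self]

end CfsgLib.JThree
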