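import Cfsg.Agent.Lib.JThree.Search
import Cfsg.Agent.Lib.JThree.Table

/-! The search on part 14 of the table. -/

set_option autoImplicit false
set_option maxRecDepth 100000
set_option Elab.async false

namespace CfsgLib.JThree

theorem check14_0 :
    searchT (746005285023, [5015283, 25889785]) = true := by
  decide +kernel

theorem check14_1 :
    searchT (746009200688, [5015283, 8078392, 25889785]) = true := by
  decide +kernel

theorem check14_2 :
    searchT (746012575586, [5015283, 7816264, 11977546]) = true := by
  decide +kernel

theorem check14_3 :
    searchT (788669369495, [2114949, 4179079, 9896746, 13994032]) = true := by
  decide +kernel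

theorem check14_4 :
    searchT (788669976434, [2114949, 4179079, 13994032]) = true := by
  decide +kernel

theorem check14_5 :
    searchT (788674562906, [2114949, 4179079, 9504578, 9896746, 13994032, 30379080]) = true := by
  decide +kernel

theorem check14_6 :
    searchT (788678462060, [2114949, 4179079, 9896746, 13994032]) = true := by
  decide +kernel

theorem check14_7 :
    searchT (788685752495, [2114949, 4179079, 9504578, 9896746, 13994032, 30379080]) = true := by
  decide +kernel

theorem check14 : tab14.all searchT = true := by
  simp only [tab14, List.all_cons, List.all_nil, check14_0, check14_1, check14_2, check14_3, check14_4, check14_5, check14_6, check14_7, Bool.and_self]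

end CfsgLib.JThree
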