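import Cfsg.Agent.Lib.JThree.Search
import Cfsg.Agent.Lib.JThree.Table

/-! The search on part 15 of the table. -/

set_option autoImplicit false
set_option maxRecDepth 100000
set_option Elab.async false

namespace CfsgLib.JThree

theorem check15_0 :
    searchT (788689913777, [2114949, 4179079, 9504578, 9896746, 13994032, 30379080]) = true := by
  decide +kernel

theorem check15_1 :
    searchT (809871887797, [4179000, 9504499, 14796848]) = true := by
  decide +kernel

theorem check15_2 :
    searchT (809875770440, [2606104, 3916872, 4179000, 5014917, 5277173, 8078154, 9504499, 9896667, 14796848, 25889419]) = true := by
  decide +kernel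

theorem check15_3 :
    searchT (809876377251, [5014917, 8078154, 9504499, 9896667, 14796848]) = true := by
  decide +kernel

theorem check15_4 :
    searchT (809879669594, [2606104, 3916872, 4179000, 5014917, 5277173, 8078154, 9504499, 9896667, 13993953, 14796848, 19286302, 25889419, 30379001]) = true := by
  decide +kernel

theorem check15_5 :
    searchT (809880963723, [2606104, 5014917, 8078154, 9504499, 14796848, 25889419]) = true := by
  decide +kernel

theorem check15_6 :
    searchT (809883766880, [2606104, 3916872, 4179000, 5014917, 8078154, 9504499]) = true := by
  decide +kernel

theorem check15_7 :
    searchT (809884862877, [2606104, 4179000, 5014917, 8078154, 9504499, 9896667, 13993953, 14796848, 19286302, 25889419, 30379001]) = true := by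
  decide +kernel

theorem check15_8 :
    searchT (809888762031, [2606104, 5014917, 8078154, 9504499, 9896667, 13993953, 14796848, 19286302, 25889419, 30379001]) = true := by
  decide +kernel

theorem check15 : tab15.all searchT = true := by
  simp only [tab15, List.all_cons, List.all_nil, check15_0, check15_1, check15_2, check15_3, check15_4, check15_5, check15_6, check15_7, check15_8, Bool.and_self]

end CfsgLib.JThree
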