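import Cfsg.Agent.Lib.JThree.Search
import Cfsg.Agent.Lib.JThree.Table

/-! The search on part 16 of the table. -/

set_option autoImplicit false
set_option maxRecDepth 100000
set_option Elab.async false

namespace CfsgLib.JThree

theorem check16_0 :
    searchT (809889024159, [2606104, 5014917, 8078154, 9504499, 13993953, 14796848, 19286302, 25889419, 30379001]) = true := by
  decide +kernel

theorem check16_1 :
    searchT (809892923313, [4179000, 5014917, 9504499, 19286302, 30379001]) = true := by
  decide +kernel

theorem check16_2 :
    searchT (809896314722, [3916872, 5014917, 8078154, 9504499, 9896667, 19286302, 25889419]) = true := by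
  decide +kernel

theorem check16_3 :
    searchT (809896838978, [3916872, 4179000, 5014917, 8078154, 9504499, 13993953, 14796848, 19286302, 25889419, 30379001]) = true := by
  decide +kernel

theorem check16_4 :
    searchT (873763408730, [2114632, 2605866, 4178762, 5276807, 8077916, 9504133, 13993715, 14796610, 19286064, 30378635]) = true := by
  decide +kernel

theorem check16_5 :
    searchT (873764015541, [4178762, 9504133, 13993715, 14796610, 19286064]) = true := by
  decide +kernel

theorem check16_6 :
    searchT (873767307884, [2114632, 2605866, 4178762, 5276807, 8077916, 9504133, 13993715, 19286064, 30378635]) = true := by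
  decide +kernel

theorem check16_7 :
    searchT (873768602013, [2605866, 4178762, 8077916, 9504133, 13993715, 14796610, 19286064, 30378635]) = true := by
  decide +kernel

theorem check16 : tab16.all searchT = true := by
  simp only [tab16, List.all_cons, List.all_nil, check16_0, check16_1, check16_2, check16_3, check16_4, check16_5, check16_6, check16_7, Bool.and_self]

end CfsgLib.JThree
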