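import Cfsg.Agent.Lib.JThree.Search
import Cfsg.Agent.Lib.JThree.Table

/-! The search on part 17 of the table. -/

set_option autoImplicit false
set_option maxRecDepth 100000
set_option Elab.async false

namespace CfsgLib.JThree

theorem check17_0 :
    searchT (873771405170, [2114632, 4178762, 9504133, 13993715]) = true := by
  decide +kernel

theorem check17_1 :
    searchT (873772501167, [2605866, 4178762, 8077916, 9504133, 13993715, 14796610, 19286064, 30378635]) = true := by
  decide +kernel

theorem check17_2 :
    searchT (873775894624, [2114632, 2605866, 8077916, 9504133]) = true := by
  decide +kernel

theorem check17_3 :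
    searchT (873776662449, [2605866, 4178762, 9504133, 13993715, 14796610, 19286064, 30378635]) = true := by
  decide +kernel

theorem check17_4 :
    searchT (873783953012, [2114632, 4178762, 8077916, 9504133, 13993715, 14796610, 19286064, 30378635]) = true := by
  decide +kernel

theorem check17_5 :
    searchT (878067468447, [2114616, 3916618, 5014663, 7815772, 9504245]) = true := by
  decide +kernel

theorem check17_6 :
    searchT (878071367601, [2114616, 3916618, 5014663, 9504245]) = true := by
  decide +kernel

theorem check17_7 :
    searchT (878074759010, [3916618, 5014663, 7815772, 9504245]) = true := by
  decide +kernel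

theorem check17_8 :
    searchT (878078658164, [2114616, 3916618, 5014663, 9504245]) = true := by
  decide +kernel

theorem check17 : tab17.all searchT = true := by
  simp only [tab17, List.all_cons, List.all_nil, check17_0, check17_1, check17_2, check17_3, check17_4, check17_5, check17_6, check17_7, check17_8, Bool.and_self]

end CfsgLib.JThree
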