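import Cfsg.Agent.Lib.JThree.Search
import Cfsg.Agent.Lib.JThree.Table

/-! The search on part 18 of the table. -/

set_option autoImplicit false
set_option maxRecDepth 100000
set_option Elab.async false

namespace CfsgLib.JThree

theorem check18_0 :
    searchT (971738467162, [2114267, 3916269, 5014314, 9503768, 20596467, 25888816, 30378270]) = true := by
  decide +kernel

theorem check18_1 :
    searchT (971742349805, [3916269, 5014314, 20596467, 25888816]) = true := by
  decide +kernel

theorem check18_2 :
    searchT (971742956616, [2114267, 3916269, 4178397, 5014314, 9503768, 20596467, 25888816]) = true := by
  decide +kernel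

theorem check18_3 :
    searchT (971746248959, [2114267, 3916269, 4178397, 9503768, 20596467, 25888816, 30378270]) = true := by
  decide +kernel

theorem check18_4 :
    searchT (971747543088, [3916269, 5014314, 20596467, 25888816]) = true := by
  decide +kernel

theorem check18_5 :
    searchT (971750346117, [2114267, 3916269, 4178397, 5014314, 9503768, 20596467]) = true := by
  decide +kernel

theorem check18_6 :
    searchT (971751442242, [2114267, 3916269, 4178397, 5014314, 9503768, 20596467, 25888816, 30378270]) = true := by
  decide +kernel

theorem check18_7 :
    searchT (971755341396, [2114267, 3916269, 5014314, 9503768, 20596467, 25888816, 30378270]) = true := by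
  decide +kernel

theorem check18 : tab18.all searchT = true := by
  simp only [tab18, List.all_cons, List.all_nil, check18_0, check18_1, check18_2, check18_3, check18_4, check18_5, check18_6, check18_7, Bool.and_self]

end CfsgLib.JThree
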