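import Cfsg.Agent.Lib.JThree.Search
import Cfsg.Agent.Lib.JThree.Table

/-! The search on part 19 of the table. -/

set_option autoImplicit false
set_option maxRecDepth 100000
set_option Elab.async false

namespace CfsgLib.JThree

theorem check19_0 :
    searchT (971755603524, [3916269, 5014314, 9503768, 20596467, 25888816, 30378270]) = true := by
  decide +kernel

theorem check19_1 :
    searchT (971758732677, [4178397, 5014314, 9503768, 30378270]) = true := by
  decide +kernel

theorem check19_2 :
    searchT (1035626105452, [2114029, 3916031, 9503530, 13992984, 20596101, 30378032]) = true := by
  decide +kernel

theorem check19_3 :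
    searchT (1035629988095, [2114029, 3916031, 9503530, 13992984, 20596101, 25888578, 30378032]) = true := by
  decide +kernel

theorem check19_4 :
    searchT (1035630594906, [2114029, 3916031, 9503530, 13992984, 20596101, 25888578, 30378032]) = true := by
  decide +kernel

theorem check19_5 :
    searchT (1035635181378, [2114029, 3916031, 9503530, 13992984, 20596101, 25888578, 30378032]) = true := by
  decide +kernel

theorem check19_6 :
    searchT (1035637984407, [2114029, 3916031, 9503530, 13992984, 20596101]) = true := by
  decide +kernel

theorem check19_7 :
    searchT (1035639080532, [2114029, 3916031, 9503530, 13992984, 20596101, 25888578, 30378032]) = true := by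
  decide +kernel

theorem check19_8 :
    searchT (1035642473861, [2114029, 9503530, 20596101]) = true := by
  decide +kernel

theorem check19 : tab19.all searchT = true := by
  simp only [tab19, List.all_cons, List.all_nil, check19_0, check19_1, check19_2, check19_3, check19_4, check19_5, check19_6, check19_7, check19_8, Bool.and_self]

end CfsgLib.JThree
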