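import Cfsg.Agent.Lib.JThree.Search
import Cfsg.Agent.Lib.JThree.Table

/-! The search on part 2 of the table. -/

set_option autoImplicit false
set_option maxRecDepth 100000
set_option Elab.async false

namespace CfsgLib.JThree

theorem check2_0 :
    searchT (191975066696, [4181302, 13273739, 23152688]) = true := by
  decide +kernel

theorem check2_1 :
    searchT (191978965850, [4181302, 8080456, 13273739, 23152688, 29148994]) = true := by
  decide +kernel

theorem check2_2 :
    searchT (277044645984, [4180985, 8080011, 23152371]) = true := by
  decide +kernel

theorem check2_3 :
    searchT (277048545138, [4180985, 23152371]) = true := by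
  decide +kernel

theorem check2_4 :
    searchT (277061815368, [4180985, 8080011, 23152371]) = true := by
  decide +kernel

theorem check2_5 :
    searchT (277065714522, [4180985, 8080011, 23152371]) = true := by
  decide +kernel

theorem check2_6 :
    searchT (277069105803, [8080011, 23152371]) = true := by
  decide +kernel

theorem check2_7 :
    searchT (281339351136, [3918841, 5016886, 13797662, 17696816, 18991073, 24987379]) = true := by
  decide +kernel

theorem check2 : tab2.all searchT = true := by
  simp only [tab2, List.all_cons, List.all_nil, check2_0, check2_1, check2_2, check2_3, check2_4, check2_5, check2_6, check2_7, Bool.and_self]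

end CfsgLib.JThree
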