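import Cfsg.Agent.Lib.JThree.Search
import Cfsg.Agent.Lib.JThree.Table

/-! The search on part 20 of the table. -/

set_option autoImplicit false
set_option maxRecDepth 100000
set_option Elab.async false

namespace CfsgLib.JThree

theorem check20_0 :
    searchT (1035643241814, [3916031, 9503530, 13992984, 20596101, 25888578, 30378032]) = true := by
  decide +kernel

theorem check20_1 :
    searchT (1061399791775, [9503562, 13993016, 14795911, 19285493]) = true := by
  decide +kernel

theorem check20_2 :
    searchT (1061403690929, [9503562, 13993016, 14795911, 19285493]) = true := by
  decide +kernel

theorem check20_3 :
    searchT (1091192244637, [5013997, 14795800, 30377953]) = true := by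
  decide +kernel

theorem check20_4 :
    searchT (1091196734091, [5013997, 25888499]) = true := by
  decide +kernel

theorem check20_5 :
    searchT (1091200026434, [5013997, 14795800, 25888499, 30377953]) = true := by
  decide +kernel

theorem check20_6 :
    searchT (1091209118871, [5013997, 14795800, 25888499, 30377953]) = true := by
  decide +kernel

theorem check20_7 :
    searchT (1155079882927, [4178226, 8077892, 11977558, 13271943, 17171609, 23152172, 29148990]) = true := by
  decide +kernel

theorem check20 : tab20.all searchT = true := by
  simp only [tab20, List.all_cons, List.all_nil, check20_0, check20_1, check20_2, check20_3, check20_4, check20_5, check20_6, check20_7, Bool.and_self]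

end CfsgLib.JThree
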