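import Cfsg.Agent.Lib.JThree.Search
import Cfsg.Agent.Lib.JThree.Table

/-! The search on part 21 of the table. -/

set_option autoImplicit false
set_option maxRecDepth 100000
set_option Elab.async false

namespace CfsgLib.JThree

theorem check21_0 :
    searchT (1155083765570, [4178226, 8077892, 11977558, 13271943, 17171609, 17958121, 23152172, 29148990]) = true := by
  decide +kernel

theorem check21_1 :
    searchT (1155084372381, [4178226, 8077892, 11977558, 13271943, 17171609, 23152172, 29148990]) = true := by
  decide +kernel

theorem check21_2 :
    searchT (1155087664724, [4178226, 8077892, 11977558, 13271943, 17171609, 17958121, 23152172, 29148990]) = true := by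
  decide +kernel

theorem check21_3 :
    searchT (1155088958853, [4178226, 13271943, 17171609, 23152172, 29148990]) = true := by
  decide +kernel

theorem check21_4 :
    searchT (1155091762010, [4178226, 8077892, 11977558, 17958121]) = true := by
  decide +kernel

theorem check21_5 :
    searchT (1155092858007, [4178226, 8077892, 11977558, 13271943, 17171609, 23152172, 29148990]) = true := by
  decide +kernel

theorem check21_6 :
    searchT (1155096251464, [8077892, 17958121]) = true := by
  decide +kernel

theorem check21_7 :
    searchT (1159374850207, [3916082, 17695977, 24987180]) = true := by
  decide +kernel

theorem check21_8 :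
    searchT (1159382632004, [3916082, 17695977, 24987180]) = true := by
  decide +kernel

theorem check21 : tab21.all searchT = true := by
  simp only [tab21, List.all_cons, List.all_nil, check21_0, check21_1, check21_2, check21_3, check21_4, check21_5, check21_6, check21_7, check21_8, Bool.and_self]

end CfsgLib.JThree
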