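import Cfsg.Agent.Lib.JThree.Search
import Cfsg.Agent.Lib.JThree.Table

/-! The search on part 22 of the table. -/

set_option autoImplicit false
set_option maxRecDepth 100000
set_option Elab.async false

namespace CfsgLib.JThree

theorem check22_0 :
    searchT (1159387825287, [3916082, 17695977, 24987180]) = true := by
  decide +kernel

theorem check22_1 :
    searchT (1223262488497, [2113842, 3916356, 13796585, 24987454]) = true := by
  decide +kernel

theorem check22_2 :
    searchT (1223266371140, [2113842, 3916356, 13796585, 18990636, 24987454]) = true := by
  decide +kernel

theorem check22_3 :
    searchT (1223266977951, [2113842, 3916356, 7816022, 13796585, 18990636, 24987454]) = true := by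
  decide +kernel

theorem check22_4 :
    searchT (1223270270294, [2113842, 3916356, 7816022, 9896919, 13796585, 18990636, 24987454]) = true := by
  decide +kernel

theorem check22_5 :
    searchT (1223271564423, [2113842, 3916356, 13796585, 18990636, 24987454]) = true := by
  decide +kernel

theorem check22_6 :
    searchT (1223274367580, [2113842, 3916356, 7816022, 13796585]) = true := by
  decide +kernel

theorem check22_7 :
    searchT (1223275463577, [2113842, 3916356, 7816022, 9896919, 13796585, 18990636, 24987454]) = true := by
  decide +kernel

theorem check22 : tab22.all searchT = true := by
  simp only [tab22, List.all_cons, List.all_nil, check22_0, check22_1, check22_2, check22_3, check22_4, check22_5, check22_6, check22_7, Bool.and_self]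

end CfsgLib.JThree
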