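import Cfsg.Agent.Lib.JThree.Search
import Cfsg.Agent.Lib.JThree.Table

/-! The search on part 23 of the table. -/

set_option autoImplicit false
set_option maxRecDepth 100000
set_option Elab.async false

namespace CfsgLib.JThree

theorem check23_0 :
    searchT (1308356527732, [3916679, 5014084, 13796908, 17696574]) = true := by
  decide +kernel

theorem check23_1 :
    searchT (1308360410247, [3916679, 5014084, 13796908, 17696574]) = true := by
  decide +kernel

theorem check23_2 :
    searchT (1308361017186, [5014084, 7816345, 13796908]) = true := by
  decide +kernel

theorem check23_3 :
    searchT (1308364309401, [2606039, 3916679, 5014084, 7816345, 13796908, 17696574]) = true := by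
  decide +kernel

theorem check23_4 :
    searchT (1308368406687, [5014084]) = true := by
  decide +kernel

theorem check23_5 :
    searchT (1406607786905, [2114439, 2606313, 9503300, 9897516]) = true := by
  decide +kernel

theorem check23_6 :
    searchT (1406608393844, [2114439, 9503300, 9897516]) = true := by
  decide +kernel

theorem check23_7 :
    searchT (1406611686059, [2114439, 2606313, 9503300, 9897516]) = true := by
  decide +kernel

theorem check23_8 :
    searchT (1406615783345, [2606313, 9503300]) = true := by
  decide +kernel

theorem check23 : tab23.all searchT = true := by
  simp only [tab23, List.all_cons, List.all_nil, check23_0, check23_1, check23_2, check23_3, check23_4, check23_5, check23_6, check23_7, check23_8, Bool.and_self]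

end CfsgLib.JThree
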