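import Cfsg.Agent.Lib.JThree.Search
import Cfsg.Agent.Lib.JThree.Table

/-! The search on part 3 of the table. -/

set_option autoImplicit false
set_option maxRecDepth 100000
set_option Elab.async false

namespace CfsgLib.JThree

theorem check3_0 :
    searchT (281346641571, [5016886, 13797662, 24987379]) = true := by
  decide +kernel

theorem check3_1 :
    searchT (281351327109, [5016886, 7817867, 13797662, 24987379]) = true := by
  decide +kernel

theorem check3_2 :
    searchT (281356520520, [3918841, 5016886, 7817867, 13797662, 17696816, 18991073, 24987379]) = true := by
  decide +kernel

theorem check3_3 :
    searchT (281363810955, [5016886, 7817867, 13797662]) = true := by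
  decide +kernel

theorem check3_4 :
    searchT (345213997707, [3918475, 13797424, 17696578, 18990835, 23152117]) = true := by
  decide +kernel

theorem check3_5 :
    searchT (345217896861, [2116601, 3918475, 9898270, 13797424, 23152117]) = true := by
  decide +kernel

theorem check3_6 :
    searchT (345219191118, [3918475, 5016648, 13797424, 18990835, 23152117]) = true := by
  decide +kernel

theorem check3_7 :
    searchT (345223090272, [2116601, 2607835, 3918475, 5016648, 9506102, 9898270, 13797424, 17696578, 18990835, 23152117]) = true := by
  decide +kernel

theorem check3_8 :
    searchT (345226989426, [2116601, 9506102, 13797424, 18990835, 23152117]) = true := by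
  decide +kernel

theorem check3 : tab3.all searchT = true := by
  simp only [tab3, List.all_cons, List.all_nil, check3_0, check3_1, check3_2, check3_3, check3_4, check3_5, check3_6, check3_7, check3_8, Bool.and_self]

end CfsgLib.JThree
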