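import Cfsg.Agent.Lib.JThree.Search
import Cfsg.Agent.Lib.JThree.Table

/-! The search on part 4 of the table. -/

set_option autoImplicit false
set_option maxRecDepth 100000
set_option Elab.async false

namespace CfsgLib.JThree

theorem check4_0 :
    searchT (345230380707, [5016648, 9506102, 9898270, 13797424, 23152117]) = true := by
  decide +kernel

theorem check4_1 :
    searchT (345234279861, [9506102, 13797424, 17696578, 18990835, 23152117]) = true := by
  decide +kernel

theorem check4_2 :
    searchT (345235066245, [2116601, 3918475, 5016648, 9506102, 9898270, 13797424, 17696578, 18990835, 23152117]) = true := by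
  decide +kernel

theorem check4_3 :
    searchT (345238965399, [3918475, 9506102, 9898270, 18990835, 23152117]) = true := by
  decide +kernel

theorem check4_4 :
    searchT (345240259656, [2116601, 2607835, 3918475, 5016648, 9506102, 9898270, 13797424, 17696578, 18990835, 23152117]) = true := by
  decide +kernel

theorem check4_5 :
    searchT (345244158810, [2116601, 2607835, 3918475, 5016648, 9506102, 9898270, 13797424, 17696578, 18990835, 23152117]) = true := by
  decide +kernel

theorem check4_6 :
    searchT (345244420938, [2116601, 3918475, 5016648, 9506102, 9898270, 13797424]) = true := by
  decide +kernel

theorem check4_7 :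
    searchT (345248057964, [2607835, 3918475, 9506102, 9898270, 13797424, 18990835]) = true := by
  decide +kernel

theorem check4 : tab4.all searchT = true := by
  simp only [tab4, List.all_cons, List.all_nil, check4_0, check4_1, check4_2, check4_3, check4_4, check4_5, check4_6, check4_7, Bool.and_self]

end CfsgLib.JThree
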