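import Cfsg.Agent.Lib.JThree.Search
import Cfsg.Agent.Lib.JThree.Table

/-! The search on part 5 of the table. -/

set_option autoImplicit false
set_option maxRecDepth 100000
set_option Elab.async false

namespace CfsgLib.JThree

theorem check5_0 :
    searchT (345248320092, [3918475, 9506102, 9898270, 13797424, 17696578]) = true := by
  decide +kernel

theorem check5_1 :
    searchT (443466567776, [2116235, 9898032, 13797186, 18990469]) = true := by
  decide +kernel

theorem check5_2 :
    searchT (443482442903, [2116235, 13995318, 18990469]) = true := by
  decide +kernel

theorem check5_3 :
    searchT (443487636314, [2116235, 13797186, 13995318]) = true := by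
  decide +kernel

theorem check5_4 :
    searchT (443491535468, [2116235, 9898032, 13995318, 18990469]) = true := by
  decide +kernel

theorem check5_5 :
    searchT (443491797596, [2116235, 13797186, 13995318]) = true := by
  decide +kernel

theorem check5_6 :
    searchT (464667775310, [5016203, 13797107, 17958389]) = true := by
  decide +kernel

theorem check5_7 :
    searchT (464671674464, [5016203, 9505785, 9897953, 13797107, 17696133, 17958389]) = true := by
  decide +kernel

theorem check5_8 :
    searchT (464688843848, [5016203, 9505785, 9897953, 13797107, 14798134, 17696133, 17958389]) = true := by
  decide +kernel

theorem check5 : tab5.all searchT = true := by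
  simp only [tab5, List.all_cons, List.all_nil, check5_0, check5_1, check5_2, check5_3, check5_4, check5_5, check5_6, check5_7, check5_8, Bool.and_self]

end CfsgLib.JThree
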