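import Cfsg.Agent.Lib.JThree.Search
import Cfsg.Agent.Lib.JThree.Table

/-! The search on part 6 of the table. -/

set_option autoImplicit false
set_option maxRecDepth 100000
set_option Elab.async false

namespace CfsgLib.JThree

theorem check6_0 :
    searchT (464692743002, [5016203, 13797107, 17958389]) = true := by
  decide +kernel

theorem check6_1 :
    searchT (464694037131, [5016203, 13797107, 14798134]) = true := by
  decide +kernel

theorem check6_2 :
    searchT (464697936285, [5016203, 9505785, 9897953, 13797107, 14798134, 17696133]) = true := by
  decide +kernel

theorem check6_3 :
    searchT (464698198413, [5016203, 13797107, 14798134]) = true := by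
  decide +kernel

theorem check6_4 :
    searchT (473270963589, [4180254, 8079408, 11978562, 13272819, 17171845]) = true := by
  decide +kernel

theorem check6_5 :
    searchT (473274862743, [4180254, 13272819, 17171845]) = true := by
  decide +kernel

theorem check6_6 :
    searchT (473278254152, [4180254, 8079408, 11978562, 13272819, 17171845]) = true := by
  decide +kernel

theorem check6_7 :
    searchT (473282153306, [4180254, 8079408, 11978562, 13272819, 17171845]) = true := by
  decide +kernel

theorem check6 : tab6.all searchT = true := by
  simp only [tab6, List.all_cons, List.all_nil, check6_0, check6_1, check6_2, check6_3, check6_4, check6_5, check6_6, check6_7, Bool.and_self]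

end CfsgLib.JThree
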