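import Cfsg.Agent.Lib.JThree.Search
import Cfsg.Agent.Lib.JThree.Table

/-! The search on part 7 of the table. -/

set_option autoImplicit false
set_option maxRecDepth 100000
set_option Elab.async false

namespace CfsgLib.JThree

theorem check7_0 :
    searchT (473286052460, [8079408, 13272819]) = true := by
  decide +kernel

theorem check7_1 :
    searchT (473288133101, [8079408]) = true := by
  decide +kernel

theorem check7_2 :
    searchT (473289443741, [4180254, 8079408, 11978562]) = true := by
  decide +kernel

theorem check7_3 :
    searchT (477565668741, [3918110, 17171957]) = true := by
  decide +kernel

theorem check7_4 :
    searchT (477572959304, [3918110, 17171957]) = true := by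
  decide +kernel

theorem check7_5 :
    searchT (528555413600, [9505419, 9897715, 13796741, 17958023]) = true := by
  decide +kernel

theorem check7_6 :
    searchT (528576482138, [9505419, 13796741, 13995001, 14797896, 17958023, 19287350]) = true := by
  decide +kernel

theorem check7_7 :
    searchT (528580381292, [9505419, 9897715, 13796741, 17958023, 19287350]) = true := by
  decide +kernel

theorem check7_8 :
    searchT (528581675421, [9505419, 13796741, 13995001, 14797896, 19287350]) = true := by
  decide +kernel

theorem check7 : tab7.all searchT = true := by
  simp only [tab7, List.all_cons, List.all_nil, check7_0, check7_1, check7_2, check7_3, check7_4, check7_5, check7_6, check7_7, check7_8, Bool.and_self]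

end CfsgLib.JThree
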