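import Cfsg.Agent.Lib.JThree.Search
import Cfsg.Agent.Lib.JThree.Table

/-! The search on part 8 of the table. -/

set_option autoImplicit false
set_option maxRecDepth 100000
set_option Elab.async false

namespace CfsgLib.JThree

theorem check8_0 :
    searchT (528585574575, [9505419, 9897715, 13796741, 13995001, 14797896, 19287350]) = true := by
  decide +kernel

theorem check8_1 :
    searchT (541436432797, [2115870, 3917872, 13272565]) = true := by
  decide +kernel

theorem check8_2 :
    searchT (541440922251, [3917872, 7817026, 13272565, 17171591]) = true := by
  decide +kernel

theorem check8_3 :
    searchT (541445508851, [3917872, 13272565]) = true := by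
  decide +kernel

theorem check8_4 :
    searchT (541449407877, [2115870, 3917872, 7817026, 13272565, 16108616, 17171591, 20598070]) = true := by
  decide +kernel

theorem check8_5 :
    searchT (541453307031, [2115870, 3917872, 13272565, 17171591, 20598070]) = true := by
  decide +kernel

theorem check8_6 :
    searchT (541456698440, [2115870, 3917872, 7817026, 13272565, 16108616, 17171591, 20598070]) = true := by
  decide +kernel

theorem check8_7 :
    searchT (541460597594, [2115870, 3917872, 13272565, 17171591, 20598070]) = true := by
  decide +kernel

theorem check8 : tab8.all searchT = true := by
  simp only [tab8, List.all_cons, List.all_nil, check8_0, check8_1, check8_2, check8_3, check8_4, check8_5, check8_6, check8_7, Bool.and_self]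

end CfsgLib.JThree
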