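import Cfsg.Agent.Lib.JThree.Search
import Cfsg.Agent.Lib.JThree.Table

/-! The search on part 9 of the table. -/

set_option autoImplicit false
set_option maxRecDepth 100000
set_option Elab.async false

namespace CfsgLib.JThree

theorem check9_0 :
    searchT (541460859722, [2115870, 3917872, 20598070]) = true := by
  decide +kernel

theorem check9_1 :
    searchT (541464758876, [2115870, 3917872, 7817026, 20598070]) = true := by
  decide +kernel

theorem check9_2 :
    searchT (541466577389, [3917872, 13272565, 20598070]) = true := by
  decide +kernel

theorem check9_3 :
    searchT (541470476543, [2115870, 3917872, 7817026, 13272565, 17171591, 20598070]) = true := by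
  decide +kernel

theorem check9_4 :
    searchT (562659707976, [3917793, 5015838, 11978229, 17171512]) = true := by
  decide +kernel

theorem check9_5 :
    searchT (562666998411, [5015838]) = true := by
  decide +kernel

theorem check9_6 :
    searchT (605333147013, [2115632, 3917634, 13272199, 20597832]) = true := by
  decide +kernel

theorem check9_7 :
    searchT (605348235884, [2115632, 13272199]) = true := by
  decide +kernel

theorem check9_8 :
    searchT (626530472032, [2115553, 3917555, 5015600, 8078837, 9505054, 13272120, 13796376]) = true := by
  decide +kernel

theorem check9 : tab9.all searchT = true := by
  simp only [tab9, List.all_cons, List.all_nil, check9_0, check9_1, check9_2, check9_3, check9_4, check9_5, check9_6, check9_7, check9_8, Bool.and_self]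

end CfsgLib.JThree
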